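import Groth.Agent.Lib.FSProj4.Step

/-! # Descent of adic formal smoothness along faithfully flat projective algebras -/

set_option autoImplicit false
set_option linter.style.haveILetI false
universe u

namespace Groth.Agent.FSProj4

open TensorProduct

variable {A B A' : Type u} [CommRing A] [CommRing B] [CommRing A'] [Algebra A B] [Algebra A A']
  (𝔞 : Ideal A) (𝔟 : Ideal B)

theorem isFormallySmoothAdic_of_baseChange [Module.FaithfullyFlat A A'] [Module.Projective A A']
    (h : EGA41.IsFormallySmoothAdic A' (𝔞.map (algebraMap A A')) (A' ⊗[A] B)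
        ((𝔞.map (algebraMap A A')).map (algebraMap A' (A' ⊗[A] B)) ⊔
          𝔟.map (Algebra.TensorProduct.includeRight : B →ₐ[A] A' ⊗[A] B).toRingHom)) :
    EGA41.IsFormallySmoothAdic A 𝔞 B 𝔟 := by
  obtain ⟨r, hr⟩ := exists_retraction (A := A) A'
  refine isFormallySmoothAdic_of_step 𝔞 𝔟 fun C _ _ J hJ _ hC u hu => ?_
  obtain ⟨k, hk⟩ := hC
  obtain ⟨j, hj⟩ := hu
  let i : C →ₐ[A] A' ⊗[A] C := Algebra.TensorProduct.includeRight
  let J' : Ideal (A' ⊗[A] C) := J.map i.toRingHom
  have hk' : ((𝔞.map (algebraMap A A')) ^ k).map (algebraMap A' (A' ⊗[A] C)) = ⊥ := by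
    rw [← Ideal.map_pow, Ideal.map_map, ← IsScalarTower.algebraMap_eq, ← i.comp_algebraMap, ← Ideal.map_map, hk,
      Ideal.map_bot]
  let g : C ⧸ J →ₐ[A] (A' ⊗[A] C) ⧸ J' := Ideal.Quotient.liftₐ J ((Ideal.Quotient.mkₐ A J').comp i)
    fun c hc => Ideal.Quotient.eq_zero_iff_mem.2 (Ideal.mem_map_of_mem i.toRingHom hc)
  let u' : A' ⊗[A] B →ₐ[A'] (A' ⊗[A] C) ⧸ J' :=
    Algebra.TensorProduct.lift (Algebra.ofId A' _) (g.comp u) fun _ _ => Commute.all _ _
  obtain ⟨v', hv'⟩ := h (A' ⊗[A] C) J' ⟨2, by rw [← Ideal.map_pow, hJ]; exact Ideal.map_bot⟩ ⟨k, hk'⟩ u' ⟨k + j, fun x hx => by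
    have hle : ((𝔞.map (algebraMap A A')).map (algebraMap A' (A' ⊗[A] B)) ⊔
        𝔟.map (Algebra.TensorProduct.includeRight : B →ₐ[A] A' ⊗[A] B).toRingHom) ^ (k + j) ≤ RingHom.ker u' := by
      refine Ideal.sup_pow_add_le_pow_sup_pow.trans (sup_le ?_ ?_)
      · rw [← Ideal.map_pow]
        refine Ideal.map_le_iff_le_comap.2 fun a ha => ?_
        show u' (algebraMap A' _ a) = 0
        rw [u'.commutes, IsScalarTower.algebraMap_apply A' (A' ⊗[A] C)]
        have h0 : algebraMap A' (A' ⊗[A] C) a = 0 := by simpa [hk'] using Ideal.mem_map_of_mem (algebraMap A' (A' ⊗[A] C)) ha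
        rw [h0, map_zero]
      · rw [← Ideal.map_pow]
        refine Ideal.map_le_iff_le_comap.2 fun b hb => ?_
        show u' (1 ⊗ₜ b) = 0
        rw [Algebra.TensorProduct.lift_tmul, map_one, one_mul, AlgHom.comp_apply, hj b hb, map_zero]
    exact hle hx⟩
  let ρ : A' ⊗[A] C →ₗ[A] C := (TensorProduct.lid A C).toLinearMap.comp (r.rTensor C)
  have hρt : ∀ a c, ρ (a ⊗ₜ c) = r a • c := fun a c => by simp [ρ]
  have hρmul : ∀ z c, ρ (z * i c) = ρ z * c := fun z c => by
    induction z using TensorProduct.induction_on with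
    | zero => simp
    | add _ _ hx hy => rw [add_mul, map_add, map_add, add_mul, hx, hy]
    | tmul a c' =>
      rw [show i c = (1 : A') ⊗ₜ[A] c from rfl, Algebra.TensorProduct.tmul_mul_tmul, mul_one, hρt, hρt, smul_mul_assoc]
  have hρi : ∀ c, ρ (i c) = c := fun c => by rw [show i c = (1 : A') ⊗ₜ[A] c from rfl, hρt, hr, one_smul]
  have hρJ : ∀ z ∈ J', ρ z ∈ J := fun z hz => by
    suffices key : ∀ y, ρ (y * z) ∈ J by simpa using key 1
    change z ∈ Ideal.span (i '' J) at hz
    induction hz using Submodule.span_induction with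
    | mem w hw => obtain ⟨c, hc, rfl⟩ := hw; intro y; rw [hρmul]; exact J.mul_mem_left _ hc
    | zero => intro y; simp
    | add _ _ _ _ hx hy => intro y; rw [mul_add, map_add]; exact add_mem (hx y) (hy y)
    | smul c w _ hw => intro y; rw [smul_eq_mul, ← mul_assoc]; exact hw _
  let t : B →ₐ[A] A' ⊗[A] C := (v'.restrictScalars A).comp Algebra.TensorProduct.includeRight
  have ht : ∀ x, Ideal.Quotient.mk J' (t x) = g (u x) := fun x => by
    refine (AlgHom.congr_fun hv' (1 ⊗ₜ x)).trans ?_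
    rw [Algebra.TensorProduct.lift_tmul, map_one, one_mul]; rfl
  let v : B → C := fun x => ρ (t x)
  have hvu : ∀ x, Ideal.Quotient.mk J (v x) = u x := fun x => by
    obtain ⟨c, hc⟩ := Ideal.Quotient.mk_surjective (u x)
    have h1 : t x - i c ∈ J' := Ideal.Quotient.eq.1 (by rw [ht x, ← hc]; rfl)
    rw [← hc, Ideal.Quotient.eq]
    have h2 := hρJ _ h1
    rwa [map_sub, hρi] at h2
  have hd : ∀ x, t x - i (v x) ∈ J' := fun x => Ideal.Quotient.eq.1 (by
    rw [ht x, ← hvu x]; rfl)
  have hd0 : ∀ x, ρ (t x - i (v x)) = 0 := fun x => by rw [map_sub, hρi]; exact sub_self _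
  have hmul : ∀ x y, v (x * y) = v x * v y := fun x y => by
    show ρ (t (x * y)) = _
    have h0 : (t x - i (v x)) * (t y - i (v y)) = 0 := by
      have := Ideal.mul_mem_mul (hd x) (hd y)
      rwa [← pow_two, ← Ideal.map_pow, hJ, Ideal.map_bot, Ideal.mem_bot] at this
    have h1 : t (x * y) = i (v x * v y) + (t x - i (v x)) * i (v y) + (t y - i (v y)) * i (v x) := by
      rw [map_mul, map_mul]
      linear_combination h0
    rw [h1, map_add, map_add, hρi, hρmul, hρmul, hd0, hd0, zero_mul, zero_mul, add_zero, add_zero]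
  refine ⟨{ toFun := v
            map_one' := by show ρ (t 1) = 1; rw [map_one, ← map_one i, hρi]
            map_mul' := hmul
            map_zero' := by show ρ (t 0) = 0; rw [map_zero, map_zero]
            map_add' := fun x y => by show ρ (t (x + y)) = ρ (t x) + ρ (t y); rw [map_add, map_add]
            commutes' := fun a => by show ρ (t (algebraMap A B a)) = _; rw [t.commutes, ← i.commutes, hρi] },
    AlgHom.ext hvu⟩

end Groth.Agent.FSProj4
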