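import Groth.Agent.Lib.FSProj4.Step

/-! # Formal smoothness of formally projective algebras modulo an ideal of definition -/

set_option autoImplicit false
set_option linter.style.haveILetI false
universe u

namespace Groth.Agent.FSProj4

variable {A B : Type u} [CommRing A] [CommRing B] [Algebra A B] (𝔞 : Ideal A) (𝔟 : Ideal B)

theorem quotient_of_isFormallySmoothAdic (h : EGA41.IsFormallySmoothAdic A 𝔞 B 𝔟) :
    EGA41.IsFormallySmoothAdic (A ⧸ 𝔞) ⊥ (B ⧸ 𝔞.map (algebraMap A B))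
      (𝔟.map (Ideal.Quotient.mk (𝔞.map (algebraMap A B)))) := by
  intro C _ _ J hJ _ u hu
  letI : Algebra A C := ((algebraMap (A ⧸ 𝔞) C).comp (Ideal.Quotient.mk 𝔞)).toAlgebra
  haveI : IsScalarTower A (A ⧸ 𝔞) C := .of_algebraMap_eq fun _ => rfl
  have h0 : ∀ a ∈ 𝔞, algebraMap A C a = 0 := fun a ha => by
    show algebraMap (A ⧸ 𝔞) C (Ideal.Quotient.mk 𝔞 a) = 0
    rw [Ideal.Quotient.eq_zero_iff_mem.2 ha, map_zero]
  let u₁ : B →ₐ[A] C ⧸ J := (u.restrictScalars A).comp (Ideal.Quotient.mkₐ A _)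
  obtain ⟨v, hv⟩ := h C J hJ ⟨1, by
    rw [pow_one, eq_bot_iff, Ideal.map_le_iff_le_comap]
    exact fun a ha => h0 a ha⟩ u₁ (by
    obtain ⟨k, hk⟩ := hu
    exact ⟨k, fun x hx => hk _ (by rw [← Ideal.map_pow]; exact Ideal.mem_map_of_mem _ hx)⟩)
  have hker : 𝔞.map (algebraMap A B) ≤ RingHom.ker v :=
    Ideal.map_le_iff_le_comap.2 fun a ha => show v (algebraMap A B a) = 0 by rw [v.commutes, h0 a ha]
  let w : B ⧸ 𝔞.map (algebraMap A B) →ₐ[A] C := Ideal.Quotient.liftₐ _ v fun x hx => hker hx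
  refine ⟨AlgHom.extendScalarsOfSurjective Ideal.Quotient.mk_surjective w, AlgHom.ext fun x => ?_⟩
  obtain ⟨x, rfl⟩ := Ideal.Quotient.mk_surjective x
  exact AlgHom.congr_fun hv x

/-- A section of a square-zero thickening of the algebra, from smoothness modulo the ideal of definition. -/
theorem exists_section_of_quotient
    (h₀ : EGA41.IsFormallySmoothAdic (A ⧸ 𝔞) ⊥ (B ⧸ 𝔞.map (algebraMap A B))
      (𝔟.map (Ideal.Quotient.mk (𝔞.map (algebraMap A B)))))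
    (m : ℕ) {P : Type u} [CommRing P] [Algebra A P] (π : P →ₐ[A] B) (hπ : Function.Surjective π) (S : Ideal P)
    (hSI : ∀ z ∈ S, π z ∈ 𝔞.map (algebraMap A B) ⊔ 𝔟 ^ m)
    (hIS : ∀ x ∈ 𝔞.map (algebraMap A B) ⊔ 𝔟 ^ m, ∃ s ∈ S, π s = x) (hS0 : ∀ s ∈ S, π s = 0 → s = 0)
    (hsq : ∀ a b, π a = 0 → π b = 0 → a * b = 0) (ha : ∀ a ∈ 𝔞, algebraMap A P a ∈ S) :
    ∃ ρ : B →ₐ[A] P, ∀ x, π (ρ x) = x := by
  let I : Ideal B := 𝔞.map (algebraMap A B) ⊔ 𝔟 ^ m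
  let E := P ⧸ S
  have hE0 : ∀ a ∈ 𝔞, algebraMap A E a = 0 := fun a haa => by
    rw [IsScalarTower.algebraMap_apply A P E, Ideal.Quotient.algebraMap_eq, Ideal.Quotient.eq_zero_iff_mem]
    exact ha a haa
  letI : Algebra (A ⧸ 𝔞) E := (Ideal.Quotient.lift 𝔞 (algebraMap A E) hE0).toAlgebra
  haveI : IsScalarTower A (A ⧸ 𝔞) E := .of_algebraMap_eq fun _ => rfl
  let ψ : E →ₐ[A] B ⧸ I := Ideal.Quotient.liftₐ S ((Ideal.Quotient.mkₐ A I).comp π)
    fun z hz => Ideal.Quotient.eq_zero_iff_mem.2 (hSI z hz)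
  have hψ : Function.Surjective ψ := fun y => by
    obtain ⟨x, rfl⟩ := Ideal.Quotient.mk_surjective y
    obtain ⟨z, rfl⟩ := hπ x
    exact ⟨Ideal.Quotient.mk S z, rfl⟩
  let N : Ideal E := RingHom.ker ψ
  have hadj : ∀ (z : P) (x : B), π z - x ∈ I → ∃ c : P, π c = x ∧ Ideal.Quotient.mk S c = Ideal.Quotient.mk S z :=
    fun z x h => by
      obtain ⟨s, hs, hπs⟩ := hIS _ h
      refine ⟨z - s, by rw [map_sub, hπs, sub_sub_cancel], Ideal.Quotient.eq.2 ?_⟩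
      rw [show z - s - z = -s by abel]
      exact S.neg_mem hs
  have hN2 : N ^ 2 = ⊥ := by
    rw [eq_bot_iff, pow_two, Ideal.mul_le]
    intro a ha b hb
    obtain ⟨a, rfl⟩ := Ideal.Quotient.mk_surjective a
    obtain ⟨b, rfl⟩ := Ideal.Quotient.mk_surjective b
    have ha' : π a ∈ I := Ideal.Quotient.eq_zero_iff_mem.1 ha
    have hb' : π b ∈ I := Ideal.Quotient.eq_zero_iff_mem.1 hb
    obtain ⟨a₀, ha0, hae⟩ := hadj a 0 (by rwa [sub_zero])
    obtain ⟨b₀, hb0, hbe⟩ := hadj b 0 (by rwa [sub_zero])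
    rw [Ideal.mem_bot, ← hae, ← hbe, ← map_mul, hsq a₀ b₀ ha0 hb0, map_zero]
  let g : B ⧸ 𝔞.map (algebraMap A B) →ₐ[A] E ⧸ N :=
    (Ideal.quotientKerAlgEquivOfSurjective hψ).symm.toAlgHom.comp (Ideal.Quotient.factorₐ A le_sup_left)
  obtain ⟨t, ht⟩ := h₀ E N ⟨2, hN2⟩ ⟨1, by simp⟩ (AlgHom.extendScalarsOfSurjective Ideal.Quotient.mk_surjective g)
    ⟨m, fun x hx => by
      rw [← Ideal.map_pow, Ideal.mem_map_iff_of_surjective _ Ideal.Quotient.mk_surjective] at hx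
      obtain ⟨x, hx, rfl⟩ := hx
      show (Ideal.quotientKerAlgEquivOfSurjective hψ).symm (Ideal.Quotient.mk I x) = 0
      rw [Ideal.Quotient.eq_zero_iff_mem.2 (Ideal.mem_sup_right hx), map_zero]⟩
  let τ : B →ₐ[A] E := (t.restrictScalars A).comp (Ideal.Quotient.mkₐ A _)
  have hτ : ∀ x, ψ (τ x) = Ideal.Quotient.mk I x := fun x => by
    have h1 : Ideal.Quotient.mk N (τ x) = (Ideal.quotientKerAlgEquivOfSurjective hψ).symm (Ideal.Quotient.mk I x) :=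
      AlgHom.congr_fun ht (Ideal.Quotient.mk _ x)
    have h2 := congrArg (Ideal.quotientKerAlgEquivOfSurjective hψ) h1
    rwa [AlgEquiv.apply_symm_apply] at h2
  have hex : ∀ x, ∃ c : P, π c = x ∧ Ideal.Quotient.mk S c = τ x := fun x => by
    obtain ⟨z, hz⟩ := Ideal.Quotient.mk_surjective (τ x)
    have h1 := hτ x
    rw [← hz] at h1
    obtain ⟨c, hc, hce⟩ := hadj z x (Ideal.Quotient.eq.1 h1)
    exact ⟨c, hc, hce.trans hz⟩
  choose ρ hρ2 hρ using hex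
  have huniq : ∀ x c, π c = x → Ideal.Quotient.mk S c = τ x → ρ x = c := fun x c hc hcm =>
    sub_eq_zero.1 (hS0 _ (Ideal.Quotient.eq.1 ((hρ x).trans hcm.symm)) (by rw [map_sub, hρ2, hc, sub_self]))
  exact ⟨{ toFun := ρ
           map_one' := huniq _ 1 (map_one π) (by rw [map_one, map_one])
           map_mul' := fun x y => huniq _ _ (by rw [map_mul, hρ2, hρ2]) (by rw [map_mul, map_mul, hρ, hρ])
           map_zero' := huniq _ 0 (map_zero π) (by rw [map_zero, map_zero])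
           map_add' := fun x y => huniq _ _ (by rw [map_add, hρ2, hρ2]) (by rw [map_add, map_add, hρ, hρ])
           commutes' := fun a => huniq _ _ (π.commutes a) (τ.commutes a).symm }, hρ2⟩

/-- Lifting step for a formally projective algebra. -/
theorem exists_lift_step
    (hproj : ∀ (n : ℕ) (P Q : Type u) [AddCommGroup P] [Module A P] [AddCommGroup Q] [Module A Q],
      (∀ a ∈ 𝔞 ^ n, ∀ y : P, a • y = 0) → (∀ a ∈ 𝔞 ^ n, ∀ y : Q, a • y = 0) →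
      ∀ f : P →ₗ[A] Q, Function.Surjective f → ∀ v : B →ₗ[A] Q, (∃ m : ℕ, ∀ x ∈ 𝔟 ^ m, v x = 0) →
        ∃ w : B →ₗ[A] P, (∃ m : ℕ, ∀ x ∈ 𝔟 ^ m, w x = 0) ∧ f ∘ₗ w = v)
    (h₀ : EGA41.IsFormallySmoothAdic (A ⧸ 𝔞) ⊥ (B ⧸ 𝔞.map (algebraMap A B))
      (𝔟.map (Ideal.Quotient.mk (𝔞.map (algebraMap A B)))))
    (C : Type u) [CommRing C] [Algebra A C] (J : Ideal C) (hJ : J ^ 2 = ⊥)
    (hJa : J * 𝔞.map (algebraMap A C) = ⊥) (hC : ∃ k : ℕ, (𝔞 ^ k).map (algebraMap A C) = ⊥)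
    (u : B →ₐ[A] C ⧸ J) (hu : ∃ k : ℕ, ∀ x ∈ 𝔟 ^ k, u x = 0) :
    ∃ v : B →ₐ[A] C, (Ideal.Quotient.mkₐ A J).comp v = u := by
  obtain ⟨k, hk⟩ := hC
  have hk' : ∀ a ∈ 𝔞 ^ k, algebraMap A C a = 0 := fun a ha => by
    simpa [hk] using Ideal.mem_map_of_mem (algebraMap A C) ha
  obtain ⟨w, ⟨m₀, hm₀⟩, hw⟩ := hproj k C (C ⧸ J)
    (fun a ha y => by rw [Algebra.smul_def, hk' a ha, zero_mul])
    (fun a ha y => by
      rw [Algebra.smul_def, IsScalarTower.algebraMap_apply A C (C ⧸ J), hk' a ha, map_zero, zero_mul])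
    (Ideal.Quotient.mkₐ A J).toLinearMap Ideal.Quotient.mk_surjective u.toLinearMap (by
      obtain ⟨j, hj⟩ := hu; exact ⟨j, hj⟩)
  have hq : ∀ x, Ideal.Quotient.mk J (w x) = u x := fun x => LinearMap.congr_fun hw x
  obtain ⟨j₀, hj₀⟩ := hu
  let m := m₀ + j₀
  have hm : ∀ x ∈ 𝔟 ^ m, w x = 0 := fun x hx => hm₀ x (Ideal.pow_le_pow_right (Nat.le_add_right _ _) hx)
  have hJJ : ∀ a ∈ J, ∀ b ∈ J, a * b = 0 := fun a ha b hb => by
    have := Ideal.mul_mem_mul ha hb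
    rwa [← pow_two, hJ, Ideal.mem_bot] at this
  have hJA : ∀ a ∈ 𝔞, ∀ c ∈ J, a • c = 0 := fun a ha c hc => by
    have := Ideal.mul_mem_mul hc (Ideal.mem_map_of_mem (algebraMap A C) ha)
    rwa [hJa, Ideal.mem_bot, mul_comm, ← Algebra.smul_def] at this
  have hdef : ∀ x y, w (x * y) - w x * w y ∈ J := fun x y => by
    rw [← Ideal.Quotient.eq_zero_iff_mem, map_sub, map_mul (Ideal.Quotient.mk J), hq, hq, hq, map_mul, sub_self]
  let I : Ideal B := 𝔞.map (algebraMap A B) ⊔ 𝔟 ^ m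
  have hI : ∀ x ∈ I, (∀ c ∈ J, c * w x = 0) ∧ ∀ b, w (b * x) = w b * w x := fun x hx => by
    have hgood : ∀ y ∈ 𝔞 • (⊤ : Submodule A B), (∀ c ∈ J, c * w y = 0) ∧ ∀ b, w (b * y) = w b * w y := fun y hy => by
      refine Submodule.smul_induction_on hy (fun a ha z _ => ⟨fun c hc => ?_, fun b => ?_⟩) fun y z hy hz => ⟨fun c hc => ?_, fun b => ?_⟩
      · rw [map_smul, mul_smul_comm, ← smul_mul_assoc, hJA a ha c hc, zero_mul]
      · rw [mul_smul_comm, map_smul, map_smul, mul_smul_comm, ← sub_eq_zero, ← smul_sub]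
        exact hJA a ha _ (hdef b z)
      · rw [map_add, mul_add, hy.1 c hc, hz.1 c hc, add_zero]
      · rw [mul_add, map_add, map_add, hy.2 b, hz.2 b, mul_add]
    obtain ⟨y, hy, z, hz, rfl⟩ := Submodule.mem_sup.1 hx
    have hy' : y ∈ 𝔞 • (⊤ : Submodule A B) := by rw [Ideal.smul_top_eq_map]; exact hy
    refine ⟨fun c hc => ?_, fun b => ?_⟩
    · rw [map_add, hm z hz, add_zero, (hgood y hy').1 c hc]
    · rw [mul_add, map_add, map_add, hm z hz, hm _ (Ideal.mul_mem_left _ b hz), add_zero, add_zero, (hgood y hy').2 b]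
  let P : Subalgebra A (C × B) :=
    AlgHom.equalizer ((Ideal.Quotient.mkₐ A J).comp (AlgHom.fst A C B)) (u.comp (AlgHom.snd A C B))
  have hP : ∀ z : P, Ideal.Quotient.mk J z.1.1 = u z.1.2 := fun z => z.2
  let wP : B → P := fun x => ⟨(w x, x), hq x⟩
  let S : Ideal P :=
    { carrier := {z | z.1.2 ∈ I ∧ z.1.1 = w z.1.2}
      add_mem' := fun {a b} ha hb => ⟨I.add_mem ha.1 hb.1, by
        show a.1.1 + b.1.1 = w (a.1.2 + b.1.2)
        rw [map_add, ha.2, hb.2]⟩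
      zero_mem' := ⟨I.zero_mem, (map_zero w).symm⟩
      smul_mem' := fun c z hz => ⟨I.mul_mem_left _ hz.1, by
        show c.1.1 * z.1.1 = w (c.1.2 * z.1.2)
        have hd : c.1.1 - w c.1.2 ∈ J := by rw [← Ideal.Quotient.eq_zero_iff_mem, map_sub, hP c, hq, sub_self]
        rw [(hI _ hz.1).2, hz.2, ← sub_eq_zero, ← sub_mul]
        exact (hI _ hz.1).1 _ hd⟩ }
  have hJmem : ∀ c : P, c.1.2 = 0 → c.1.1 ∈ J := fun c hc => by
    rw [← Ideal.Quotient.eq_zero_iff_mem, hP c, hc, map_zero]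
  obtain ⟨ρ, hρ⟩ := exists_section_of_quotient 𝔞 𝔟 h₀ m ((AlgHom.snd A C B).comp P.val)
    (fun x => ⟨wP x, rfl⟩) S (fun z hz => hz.1) (fun x hx => ⟨wP x, ⟨hx, rfl⟩, rfl⟩)
    (fun s hs h0 => Subtype.ext (Prod.ext (by rw [hs.2]; exact (congrArg w h0).trans (map_zero w)) h0))
    (fun a b ha0 hb0 => Subtype.ext (Prod.ext (hJJ _ (hJmem a ha0) _ (hJmem b hb0))
      (show a.1.2 * b.1.2 = 0 by rw [show a.1.2 = 0 from ha0, zero_mul])))
    (fun a ha => ⟨Ideal.mem_sup_left (Ideal.mem_map_of_mem _ ha), by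
      show algebraMap A C a = w (algebraMap A B a)
      rw [Algebra.algebraMap_eq_smul_one, Algebra.algebraMap_eq_smul_one, map_smul, ← sub_eq_zero, ← smul_sub]
      exact hJA a ha _ (by rw [← Ideal.Quotient.eq_zero_iff_mem, map_sub, map_one, hq, map_one, sub_self])⟩)
  refine ⟨(AlgHom.fst A C B).comp (P.val.comp ρ), AlgHom.ext fun x => ?_⟩
  show Ideal.Quotient.mk J (ρ x).1.1 = u x
  rw [hP]
  exact congrArg u (hρ x)

end Groth.Agent.FSProj4
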