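import Groth.Agent.Lib.AdicSmooth.Basic
import Groth.Prelude.Def_EGA41
import Mathlib

/-! # Adic formal smoothness by elementary lifting steps -/

set_option autoImplicit false
set_option linter.style.haveILetI false
universe u

namespace Groth.Agent.FSProj4

variable {A B : Type u} [CommRing A] [CommRing B] [Algebra A B] (𝔞 : Ideal A) (𝔟 : Ideal B)

/-- It suffices to lift along square-zero ideals annihilated by the ideal of definition. -/
theorem isFormallySmoothAdic_of_step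
    (h : ∀ (C : Type u) [CommRing C] [Algebra A C] (J : Ideal C), J ^ 2 = ⊥ →
      J * 𝔞.map (algebraMap A C) = ⊥ → (∃ k : ℕ, (𝔞 ^ k).map (algebraMap A C) = ⊥) →
      ∀ u : B →ₐ[A] C ⧸ J, (∃ k : ℕ, ∀ x ∈ 𝔟 ^ k, u x = 0) →
        ∃ v : B →ₐ[A] C, (Ideal.Quotient.mkₐ A J).comp v = u) :
    EGA41.IsFormallySmoothAdic A 𝔞 B 𝔟 := by
  suffices key : ∀ (t : ℕ) (C : Type u) [CommRing C] [Algebra A C] (J : Ideal C),
      J * (J ⊔ 𝔞.map (algebraMap A C)) ^ t = ⊥ → IsNilpotent J → (∃ k : ℕ, (𝔞 ^ k).map (algebraMap A C) = ⊥) →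
      ∀ u : B →ₐ[A] C ⧸ J, (∃ k : ℕ, ∀ x ∈ 𝔟 ^ k, u x = 0) →
        ∃ v : B →ₐ[A] C, (Ideal.Quotient.mkₐ A J).comp v = u by
    intro C _ _ J hJ hC u hu
    obtain ⟨n, hn⟩ := hJ
    obtain ⟨k, hk⟩ := hC
    refine key (n + k) C J (le_bot_iff.1 ((Ideal.mul_le_right (I := J)).trans (Ideal.sup_pow_add_le_pow_sup_pow.trans ?_)))
      ⟨n, hn⟩ ⟨k, hk⟩ u hu
    rw [hn, ← Ideal.map_pow, hk]
    simp
  intro t
  induction t with
  | zero =>
    intro C _ _ J hJ _ hC u hu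
    obtain rfl : J = ⊥ := by simpa using hJ
    refine h C ⊥ (Ideal.bot_pow two_ne_zero) (Ideal.bot_mul _) hC u hu
  | succ t ih =>
    intro C _ _ J hJ hnil hC u hu
    let K : Ideal C := J ⊔ 𝔞.map (algebraMap A C)
    let J' : Ideal C := J * K ^ t
    have hJ'J : J' ≤ J := Ideal.mul_le_left
    have hJ'K : J' * K = ⊥ := by rw [mul_assoc, ← pow_succ]; exact hJ
    have hnil' : IsNilpotent J' := by
      obtain ⟨n, hn⟩ := hnil
      exact ⟨n, le_bot_iff.1 ((Ideal.pow_right_mono hJ'J n).trans hn.le)⟩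
    let J₁ : Ideal (C ⧸ J') := J.map (Ideal.Quotient.mk J')
    let e : ((C ⧸ J') ⧸ J₁) ≃ₐ[A] C ⧸ J :=
      { (DoubleQuot.quotQuotEquivQuotSup J' J).trans (Ideal.quotEquivOfEq (sup_eq_right.mpr hJ'J)) with
        commutes' := fun x => rfl }
    have hmap : 𝔞.map (algebraMap A (C ⧸ J')) = (𝔞.map (algebraMap A C)).map (Ideal.Quotient.mk J') := by
      rw [Ideal.map_map]; rfl
    have hu₁ : ∃ k : ℕ, ∀ x ∈ 𝔟 ^ k, e.symm.toAlgHom.comp u x = 0 := by
      obtain ⟨k, hk⟩ := hu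
      exact ⟨k, fun x hx => by simp [hk x hx]⟩
    obtain ⟨v₁, hv₁⟩ := ih (C ⧸ J') J₁ (by
      rw [hmap, ← Ideal.map_sup, ← Ideal.map_pow, ← Ideal.map_mul]
      exact Ideal.map_quotient_self J') (by
      obtain ⟨n, hn⟩ := hnil
      exact ⟨n, by rw [← Ideal.map_pow, hn]; exact Ideal.map_bot⟩) (by
      obtain ⟨k, hk⟩ := hC
      refine ⟨k, ?_⟩
      rw [IsScalarTower.algebraMap_eq A C (C ⧸ J'), ← Ideal.map_map, hk, Ideal.map_bot]) (e.symm.toAlgHom.comp u) hu₁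
    obtain ⟨v, hv⟩ := h C J' (le_bot_iff.1 (by
        rw [pow_two, ← hJ'K]
        exact Ideal.mul_mono_right (hJ'J.trans le_sup_left)))
      (le_bot_iff.1 (by rw [← hJ'K]; exact Ideal.mul_mono_right le_sup_right)) hC v₁
      (AdicSmooth.continuous_lift 𝔟 J₁ (by
        obtain ⟨n, hn⟩ := hnil
        exact ⟨n, by rw [← Ideal.map_pow, hn]; exact Ideal.map_bot⟩) _ hu₁ v₁ hv₁)
    refine ⟨v, AlgHom.ext fun x => ?_⟩
    have h1 : e (Ideal.Quotient.mk J₁ (v₁ x)) = u x := by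
      rw [show Ideal.Quotient.mk J₁ (v₁ x) = e.symm (u x) from AlgHom.congr_fun hv₁ x, AlgEquiv.apply_symm_apply]
    rw [← AlgHom.congr_fun hv x] at h1
    exact h1

/-- A faithfully flat projective algebra retracts onto its base. -/
theorem exists_retraction (A' : Type u) [CommRing A'] [Algebra A A'] [Module.FaithfullyFlat A A']
    [Module.Projective A A'] : ∃ r : A' →ₗ[A] A, r 1 = 1 := by
  let I : Ideal A := LinearMap.range (LinearMap.applyₗ (R := A) (M := A') (M₂ := A) 1)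
  suffices h : I = ⊤ by
    obtain ⟨r, hr⟩ : (1 : A) ∈ I := h ▸ trivial
    exact ⟨r, hr⟩
  by_contra hne
  obtain ⟨m, hm, hle⟩ := Ideal.exists_le_maximal I hne
  obtain ⟨s, hs⟩ := Module.projective_def.1 ‹Module.Projective A A'›
  have h1 : (1 : A') ∈ m.map (algebraMap A A') := by
    rw [← hs 1, Finsupp.linearCombination_apply]
    refine sum_mem fun i _ => ?_
    show (s 1) i • i ∈ _
    rw [Algebra.smul_def]
    exact Ideal.mul_mem_right _ _ (Ideal.mem_map_of_mem _ (hle ⟨(Finsupp.lapply i).comp s, rfl⟩))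
  have h2 : (1 : A) ∈ (m.map (algebraMap A A')).comap (algebraMap A A') := by
    rw [Ideal.mem_comap, map_one]; exact h1
  rw [Ideal.comap_map_eq_self_of_faithfullyFlat] at h2
  exact hm.ne_top ((Ideal.eq_top_iff_one m).2 h2)

end Groth.Agent.FSProj4
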